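import Groth.Agent.FrobPic.Basic
import Groth.Agent.AVAmple.Translate
import Groth.Agent.WeilLib.FrobPow

/-!
Frobenius iterates act on the Picard group by powers.
-/

set_option autoImplicit false
set_option backward.isDefEq.respectTransparency false
set_option backward.isDefEq.respectTransparency.types false
set_option linter.style.haveILetI false

universe u

open CategoryTheory CategoryTheory.Limits AlgebraicGeometry FrobSch

noncomputable section

namespace Groth.Agent.FrobPic

attribute [local instance] W7Cube.law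

variable {X : Scheme.{u}} (p : ℕ) [Fact p.Prime] [IsCharP X p]

theorem pull_frob (c : PicLoc.PicSet X) : W7Cube.pull (frob X p) c = c ^ p := by
  obtain ⟨L, hL, rfl⟩ := PicGrp.exists_eq_cls c
  rw [W7Cube.pull_cls, show PicGrp.cls L hL ^ p = PicGrp.cls _ (TMul.isInvertible_tensorPow hL p) from
    Subtype.ext (PicGrp.cls_pow_val hL p), PicGrp.cls_eq_cls_iff]
  exact nonempty_pullback_iso p hL

theorem pull_frobPow (e : ℕ) (c : PicLoc.PicSet X) :
    W7Cube.pull (WeilLib.frobPow p X e) c = c ^ (p ^ e) := by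
  induction e generalizing c with
  | zero =>
    obtain ⟨L, hL, rfl⟩ := PicGrp.exists_eq_cls c
    rw [pow_zero, pow_one, WeilLib.frobPow, W7Cube.pull_cls, PicGrp.cls_eq_cls_iff]
    exact ⟨(Scheme.Modules.pullbackId X).app L⟩
  | succ e ih => rw [WeilLib.frobPow, ← W7Cube.pull_pull, pull_frob, ih, ← pow_mul, pow_succ']

omit [Fact p.Prime] [IsCharP X p] in
/-- The `q`-Frobenius of a scheme over a finite field with `q` elements. -/
theorem pull_of_isFrob {k : Type u} [Field k] [Finite k] (f : X ⟶ Spec (CommRingCat.of k)) (F : X ⟶ X)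
    (hb : F.base = 𝟙 _) (hle : ∀ U : X.Opens, U ≤ F ⁻¹ᵁ U)
    (happ : ∀ (U : X.Opens) (s : Γ(X, U)), (F.appLE U U (hle U)).hom s = s ^ Nat.card k)
    (c : PicLoc.PicSet X) : W7Cube.pull F c = c ^ Nat.card k := by
  haveI := Fintype.ofFinite k
  obtain ⟨p', hp⟩ := CharP.exists k
  obtain ⟨e, hpr, hcard⟩ := FiniteField.card k p'
  haveI := Fact.mk hpr
  haveI : IsCharP X p' := IsCharP.of_hom f p'
  have hq : Nat.card k = p' ^ (e : ℕ) := by rw [Nat.card_eq_fintype_card]; exact hcard
  rw [WeilLib.eq_frobPow p' e F hb hle (fun U s => by rw [happ U s, hq]), pull_frobPow, hq]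

end Groth.Agent.FrobPic
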