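import Groth.Agent.InvExt.Push
import Groth.Agent.TMul.Power
import Groth.Prelude.Def_Frob
import Groth.Prelude.Def_PicLoc
import Groth.Prelude.Def_PicLoc2

/-!
The inverse image of an invertible module along the absolute Frobenius is its `p`-th power.
-/

set_option autoImplicit false
set_option backward.isDefEq.respectTransparency false
set_option linter.style.haveILetI false

universe u

open CategoryTheory CategoryTheory.Limits AlgebraicGeometry TopologicalSpace Opposite
open Groth.Agent.QC (res resO res_res res_smul resO_resO app_res section_eq_of_locally)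
open TMul FrobSch

noncomputable section

namespace Groth.Agent.FrobPic

variable {X : Scheme.{u}} (p : ℕ) [Fact p.Prime] [IsCharP X p] {L : X.Modules}

theorem pow_char_add (U : X.Opens) (a b : Γ(X, U)) : (a + b) ^ p = a ^ p + b ^ p :=
  (powHom p Γ(X, U) (natCast_eq_zero_app X p U)).map_add a b

theorem pw_add (hL : PicF.IsInvertible L) {U : X.Opens} (s t : Γ(L, U)) :
    pw (s + t) p = pw s p + pw t p := by
  refine section_eq_of_locally fun x hx => ?_
  obtain ⟨W, e, hxW, he⟩ := exists_isGen hL x
  let B := U ⊓ W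
  obtain ⟨a, ha⟩ := (he B inf_le_right).2 (res L (inf_le_left : B ≤ U) s)
  obtain ⟨b, hb⟩ := (he B inf_le_right).2 (res L (inf_le_left : B ≤ U) t)
  change a • _ = _ at ha
  change b • _ = _ at hb
  refine ⟨B, inf_le_left, ⟨hx, hxW⟩, ?_⟩
  rw [map_add, res_pw, res_pw, res_pw, map_add, ← ha, ← hb, ← add_smul, pw_smul, pw_smul, pw_smul,
    ← add_smul, pow_char_add p B a b]

/-- `s ↦ s^{⊗p}` into the direct image along the Frobenius. -/
def frobPush (hL : PicF.IsInvertible L) :
    L ⟶ (Scheme.Modules.pushforward (frob X p)).obj (CohB1.tensorPow L p) :=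
  ⟨PresheafOfModules.homMk
    { app := fun U => AddCommGrpCat.ofHom
        (AddMonoidHom.mk' (fun s : Γ(L, U.unop) => (pw s p : Γ(CohB1.tensorPow L p, U.unop)))
          fun s t => pw_add p hL s t)
      naturality := fun U V h => by
        ext s
        exact (res_pw (leOfHom h.unop) s p).symm }
    (fun U r s => by
      show pw (r • s) p = _
      rw [pw_smul]
      rfl)⟩

/-- `frob^* L ≅ L^{⊗p}`. -/
theorem nonempty_pullback_iso (hL : PicF.IsInvertible L) :
    Nonempty ((Scheme.Modules.pullback (frob X p)).obj L ≅ CohB1.tensorPow L p) := by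
  let f := frob X p
  let adj := Scheme.Modules.pullbackPushforwardAdjunction f
  let ψ : (Scheme.Modules.pullback f).obj L ⟶ CohB1.tensorPow L p :=
    (adj.homEquiv L _).symm (frobPush p hL)
  have hψ : ∀ (O : X.Opens) (s : Γ(L, O)),
      ψ.app (f ⁻¹ᵁ O) ((adj.unit.app L).app O s) = (frobPush p hL).app O s := fun O s => by
    have h : adj.homEquiv L _ ψ = frobPush p hL := Equiv.apply_symm_apply _ _
    rw [Adjunction.homEquiv_unit] at h
    exact congrArg (fun q : L ⟶ (Scheme.Modules.pushforward f).obj (CohB1.tensorPow L p) => q.app O s) h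
  haveI : IsIso ψ := InvExt.isIso_of_hits_gen (PicLoc.isInvertible_pullback f hL) ψ fun x => by
    obtain ⟨W, e, hxW, he⟩ := exists_isGen hL x
    refine ⟨f ⁻¹ᵁ W, (adj.unit.app L).app W e, hxW, ?_⟩
    rw [hψ]
    exact isGen_pw he p
  exact ⟨asIso ψ⟩

end Groth.Agent.FrobPic
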